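import Groth.Agent.DimFormula.Criteria
import Groth.Agent.FibDim.Minimal
import Groth.Agent.VarDim.Top
import Groth.Agent.VarDim.Fibre
import Groth.Agent.S0402

set_option autoImplicit false
set_option linter.style.haveILetI false
set_option backward.isDefEq.respectTransparency false
universe u
open CategoryTheory CategoryTheory.Limits AlgebraicGeometry

namespace Groth.Agent.FibreDimGen

theorem main (k : Type u) [Field k] (X Y : Scheme.{u}) (p : X ⟶ Spec (CommRingCat.of k)) (q : Y ⟶ Spec (CommRingCat.of k))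
    [LocallyOfFiniteType p] [LocallyOfFiniteType q] [IrreducibleSpace X]
    (f : X ⟶ Y) (hf : f ≫ q = p) (a b : ℕ) (ha : topologicalKrullDim X = a)
    (hb : topologicalKrullDim (closure (Set.range f.base)) = b) :
    (∀ x : X, ((a - b : ℕ) : WithBot ℕ∞) ≤ FlatMor.fibreDimAt f x) ∧
      IsOpen {x : X | FlatMor.fibreDimAt f x = (a - b : ℕ)} ∧ Dense {x : X | FlatMor.fibreDimAt f x = (a - b : ℕ)} := by
  haveI : LocallyOfFiniteType (f ≫ q) := by rw [hf]; infer_instance
  haveI : LocallyOfFiniteType f := locallyOfFiniteType_of_comp f q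
  haveI : IsLocallyNoetherian Y := LocallyOfFiniteType.isLocallyNoetherian q
  set ξ := genericPoint X with hξ
  have hA : VarDim.deg p ξ = a := by
    have := (VarDim.topologicalKrullDim_eq_deg_genericPoint p).symm.trans ha
    exact_mod_cast this
  have hcl : closure (Set.range f.base) = closure {f ξ} := by
    refine subset_antisymm (closure_minimal ?_ isClosed_closure) (closure_mono (Set.singleton_subset_iff.2 ⟨ξ, rfl⟩))
    rintro _ ⟨x, rfl⟩
    exact ((genericPoint_specializes x).map f.continuous).mem_closure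
  have hB : VarDim.deg q (f ξ) = b := by
    rw [hcl, VarDim.topologicalKrullDim_closure_singleton q] at hb
    exact_mod_cast hb
  have hgen : FlatMor.fibreDimAt f ξ = ((a - b : ℕ) : WithBot ℕ∞) := by
    have h0 : DimFormula.fb f ξ = 0 := (DimFormula.fb_eq_zero_iff f ξ).2
      (FibDim.fibMax_of_maximal f fun z hz => (hz.antisymm (genericPoint_specializes z)).eq)
    have h1 : (VarDim.deg (f ≫ q) ξ : Cardinal) = VarDim.deg q (f ξ) + FibDim.rd f ξ := by
      rw [FibDim.rd_eq_rdeg, VarDim.deg_eq_tdeg, VarDim.deg_eq_tdeg, VarDim.tdeg_comp]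
    have h2 : VarDim.deg p ξ = VarDim.deg q (f ξ) + FibDim.rd f ξ := by
      rw [← VarDim.deg_congr hf]
      exact_mod_cast h1
    rw [DimFormula.fibreDimAt_eq_add, h0, show FibDim.rd f ξ = a - b by omega]
    rfl
  have hle : ∀ n : ℕ, ∀ x, FlatMor.fibreDimAt f x ≤ n → FlatMor.fibreDimAt f ξ ≤ n := fun n x hx =>
    (genericPoint_specializes x).mem_open (S0402.result f n) hx
  have hlow : ∀ x : X, ((a - b : ℕ) : WithBot ℕ∞) ≤ FlatMor.fibreDimAt f x := fun x => by
    have h := DimFormula.fibreDimAt_eq_add f x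
    have := hle _ x (le_of_eq h)
    rw [hgen] at this
    rw [h]
    exact this
  have heq : {x : X | FlatMor.fibreDimAt f x = (a - b : ℕ)} = {x : X | FlatMor.fibreDimAt f x ≤ (a - b : ℕ)} :=
    Set.ext fun x => ⟨fun h => le_of_eq h, fun h => le_antisymm h (hlow x)⟩
  refine ⟨hlow, heq ▸ S0402.result f _, fun x => ?_⟩
  exact closure_mono (Set.singleton_subset_iff.2 (show ξ ∈ {x : X | FlatMor.fibreDimAt f x = (a - b : ℕ)} from hgen))
    (genericPoint_specializes x).mem_closure

end Groth.Agent.FibreDimGen
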